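import Cfsg.Agent.H964.AltMod.Dim

/-!
# The natural module of `Alt α`: automorphisms (helper575)

`NatM.twist` : a linear map twisting the action by a permutation `s` maps `F i j` to a multiple of `F (s i) (s j)`.
-/

set_option autoImplicit false
set_option linter.unusedSectionVars false

namespace Cfsg.Agent.H575.NA

open Equiv Equiv.Perm Cfsg.Agent.H614.AMod Cfsg.Agent.H882.Del Cfsg.Agent.H964.AltMod

variable {K V : Type*} [Field K] [AddCommGroup V] [Module K V] [FiniteDimensional K V]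
variable {α : Type*} [Fintype α] [DecidableEq α] {ρ : Representation K (alternatingGroup α) V} {F : α → α → V}

/-- two further points -/
theorem exists_two (h8 : 8 ≤ Fintype.card α) (l : List α) (hl : l.length ≤ 4) :
    ∃ p q : α, p ∉ l ∧ q ∉ l ∧ p ≠ q := by
  obtain ⟨p, hp⟩ := Cfsg.Agent.H964.AltMod.exists_notMem (l := l) (by omega)
  obtain ⟨q, hq⟩ := Cfsg.Agent.H964.AltMod.exists_notMem (l := p :: l) (by rw [List.length_cons]; omega)
  rw [List.mem_cons, not_or] at hq
  exact ⟨p, q, hp, hq.2, fun h => hq.1 h.symm⟩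

/-- `F i j`, `F j l`, `F j m` are linearly independent: coefficients -/
theorem coeff_zero (N : NatM ρ F) (h8 : 8 ≤ Fintype.card α) {i j l m : α} (hil : i ≠ l) (him : i ≠ m) (hjl : j ≠ l)
    (hjm : j ≠ m) (hlm : l ≠ m) {a b c : K} (h : a • F i j + b • F j l + c • F j m = 0) : c = 0 := by
  obtain ⟨p, q, hp, hq, hpq⟩ := exists_two h8 [i, j, l, m] (by simp)
  simp only [List.mem_cons, List.not_mem_nil, or_false, not_or] at hp hq
  have hmp : m ≠ p := Ne.symm hp.2.2.2
  have h1 := congrArg (ρ (cyc m p q hmp hpq)) h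
  rw [map_zero, map_add, map_add, map_smul, map_smul, map_smul, N.act, N.act, N.act,
    cyc_fst hmp hpq (Ne.symm hq.2.2.2), cyc_of_ne hmp hpq him (Ne.symm hp.1) (Ne.symm hq.1),
    cyc_of_ne hmp hpq hjm (Ne.symm hp.2.1) (Ne.symm hq.2.1),
    cyc_of_ne hmp hpq hlm (Ne.symm hp.2.2.1) (Ne.symm hq.2.2.1)] at h1
  have h2 : c • F m p = 0 := by
    have h3 : F m p = F j p - F j m := by rw [← N.tri m j p, N.anti j m]; abel
    rw [h3, smul_sub, sub_eq_zero]
    have h4 := h1.trans h.symm
    exact add_left_cancel h4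
  rcases smul_eq_zero.1 h2 with h3 | h3
  · exact h3
  · exact absurd h3 (N.ne_zero h8 hmp)

/-- `[V, (i j l)]` -/
theorem U_le (N : NatM ρ F) {i j l : α} (hij : i ≠ j) (hjl : j ≠ l) (hil : i ≠ l) {v : V}
    (hv : v ∈ U ρ (cyc i j l hij hjl)) : ∃ a b : K, v = a • F i j + b • F j l := by
  obtain ⟨u, rfl⟩ := (mem_U ρ).1 hv
  set g := cyc i j l hij hjl with hg
  have hx : ∀ x, ∃ a b : K, F x ((g : Perm α) x) = a • F i j + b • F j l := by
    intro x
    by_cases h1 : x = i
    · subst h1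
      exact ⟨1, 0, by rw [hg, cyc_fst hij hjl hil, one_smul, zero_smul, add_zero]⟩
    by_cases h2 : x = j
    · subst h2
      exact ⟨0, 1, by rw [hg, cyc_snd hij hjl hil, one_smul, zero_smul, zero_add]⟩
    by_cases h3 : x = l
    · subst h3
      refine ⟨-1, -1, ?_⟩
      rw [hg, cyc_thd hij hjl, N.anti i x, ← N.tri i j x, neg_smul, neg_smul, one_smul, one_smul]
      abel
    · exact ⟨0, 0, by rw [hg, cyc_of_ne hij hjl h1 h2 h3, N.self, zero_smul, zero_smul, add_zero]⟩
  have key : ∀ u ∈ Submodule.span K (Set.range fun p : α × α => F p.1 p.2),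
      ρ g u - u ∈ Submodule.span K ({F i j, F j l} : Set V) := by
    intro u hu
    induction hu using Submodule.span_induction with
    | mem x hx' =>
      obtain ⟨⟨y, z⟩, rfl⟩ := hx'
      obtain ⟨a, b, h1⟩ := hx y
      obtain ⟨a', b', h2⟩ := hx z
      show ρ g (F y z) - F y z ∈ _
      have h3 : ρ g (F y z) - F y z = F z ((g : Perm α) z) - F y ((g : Perm α) y) := by
        rw [N.act, ← N.tri ((g : Perm α) y) y ((g : Perm α) z), ← N.tri y z ((g : Perm α) z),
          N.anti y ((g : Perm α) y)]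
        abel
      rw [h3, h1, h2, Submodule.mem_span_pair]
      exact ⟨a' - a, b' - b, by rw [sub_smul, sub_smul]; abel⟩
    | zero => rw [map_zero, sub_zero]; exact Submodule.zero_mem _
    | add x y _ _ hx' hy' =>
      have : ρ g (x + y) - (x + y) = (ρ g x - x) + (ρ g y - y) := by rw [map_add]; abel
      rw [this]
      exact Submodule.add_mem _ hx' hy'
    | smul c x _ hx' =>
      rw [map_smul, ← smul_sub]
      exact Submodule.smul_mem _ _ hx'
  have h1 := key u (by rw [N.span]; trivial)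
  rw [Submodule.mem_span_pair] at h1
  obtain ⟨a, b, h2⟩ := h1
  exact ⟨a, b, h2.symm⟩

theorem mem_U' (N : NatM ρ F) (h8 : 8 ≤ Fintype.card α) {i j l : α} (hij : i ≠ j) (hjl : j ≠ l) (hil : i ≠ l) :
    ∃ u, F i j = ρ (cyc i j l hij hjl) u - u := by
  obtain ⟨p, q, hp, -, -⟩ := exists_two h8 [i, j, l] (by simp)
  simp only [List.mem_cons, List.not_mem_nil, or_false, not_or] at hp
  refine ⟨F p i, ?_⟩
  rw [N.act, cyc_fst hij hjl hil, cyc_of_ne hij hjl hp.1 hp.2.1 hp.2.2, ← N.tri p i j]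
  abel

theorem conj_cyc (s : Perm α) {i j l : α} (hij : i ≠ j) (hjl : j ≠ l) :
    ((cyc (s i) (s j) (s l) (s.injective.ne hij) (s.injective.ne hjl) : alternatingGroup α) : Perm α) =
      s * ((cyc i j l hij hjl : alternatingGroup α) : Perm α) * s⁻¹ := by
  show swap (s i) (s j) * swap (s j) (s l) = s * (swap i j * swap j l) * s⁻¹
  rw [swap_apply_apply, swap_apply_apply]
  group

/-- **a linear map twisting the action by `s`** -/
theorem twist (N : NatM ρ F) (h8 : 8 ≤ Fintype.card α) (T : V →ₗ[K] V) (s : Perm α)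
    (hT : ∀ g g' : alternatingGroup α, (g' : Perm α) = s * (g : Perm α) * s⁻¹ → ∀ v, T (ρ g v) = ρ g' (T v))
    {i j : α} (hij : i ≠ j) : ∃ a : K, T (F i j) = a • F (s i) (s j) := by
  obtain ⟨l, m, hl, hm, hlm⟩ := exists_two h8 [i, j] (by simp)
  simp only [List.mem_cons, List.not_mem_nil, or_false, not_or] at hl hm
  have key : ∀ l, l ≠ i → l ≠ j → ∃ a b : K, T (F i j) = a • F (s i) (s j) + b • F (s j) (s l) := by
    intro l hli hlj
    obtain ⟨u, hu⟩ := mem_U' N h8 hij (Ne.symm hlj) (Ne.symm hli)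
    apply U_le N (s.injective.ne hij) (s.injective.ne (Ne.symm hlj)) (s.injective.ne (Ne.symm hli))
    rw [mem_U]
    refine ⟨T u, ?_⟩
    rw [hu, map_sub, hT _ _ (conj_cyc s hij (Ne.symm hlj))]
  obtain ⟨a, b, h1⟩ := key l hl.1 hl.2
  obtain ⟨a', b', h2⟩ := key m hm.1 hm.2
  have hb : b' = 0 := by
    have h3 : (a' - a) • F (s i) (s j) + (-b) • F (s j) (s l) + b' • F (s j) (s m) = 0 := by
      have h4 := h2.symm.trans h1
      rw [sub_smul, neg_smul]
      have h5 : a' • F (s i) (s j) - a • F (s i) (s j) + -(b • F (s j) (s l)) + b' • F (s j) (s m) =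
        (a' • F (s i) (s j) + b' • F (s j) (s m)) - (a • F (s i) (s j) + b • F (s j) (s l)) := by abel
      rw [h5, h4, sub_self]
    exact coeff_zero N h8 (s.injective.ne (Ne.symm hl.1)) (s.injective.ne (Ne.symm hm.1)) (s.injective.ne (Ne.symm hl.2))
      (s.injective.ne (Ne.symm hm.2)) (s.injective.ne hlm) h3
  refine ⟨a', ?_⟩
  rw [h2, hb, zero_smul, add_zero]

/-- over the field of two elements -/
theorem twist_two (N : NatM ρ F) (h8 : 8 ≤ Fintype.card α) (hK : ∀ a : K, a = 0 ∨ a = 1) (T : V →ₗ[K] V)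
    (hTi : Function.Injective T) (s : Perm α)
    (hT : ∀ g g' : alternatingGroup α, (g' : Perm α) = s * (g : Perm α) * s⁻¹ → ∀ v, T (ρ g v) = ρ g' (T v))
    (i j : α) : T (F i j) = F (s i) (s j) := by
  by_cases hij : i = j
  · subst hij
    rw [N.self, N.self, map_zero]
  obtain ⟨a, ha⟩ := twist N h8 T s hT hij
  rcases hK a with rfl | rfl
  · exfalso
    rw [zero_smul] at ha
    exact N.ne_zero h8 hij (hTi (ha.trans (map_zero T).symm))
  · rw [ha, one_smul]

end Cfsg.Agent.H575.NA
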