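import Cfsg.Agent.H951.Nt.Kill
import Cfsg.Agent.H614.AMod.Main
import Cfsg.Agent.H419.EP.Soc

/-!
# S3499: alternating socles of degree at least 11 over the field of two elements, dimension at most 12 (helper575)

* `HasSoc.unique` : the socle is unique up to isomorphism;
* `nat_core`, `nat_hasSoc` : `|F| = 2`, `n ≤ 12`, `c ≥ 11`: `False`.
-/

set_option autoImplicit false
set_option linter.unusedSectionVars false

namespace Cfsg.Agent.H575.NA

open Equiv Equiv.Perm Cfsg Cfsg.Geo Cfsg.Agent.H284 Cfsg.Agent.H419.EP Cfsg.Agent.H614.AMod Cfsg.Agent.H964.AltMod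
open Cfsg.Agent.H915.LD
open scoped MatrixGroups

/-- the socle is unique -/
theorem soc_unique {Q : Type*} [Group Q] {A : Subgroup Q} {L L' : Type*} [Group L] [Group L'] (hs : IsSimpleGroup L)
    (hs' : IsSimpleGroup L') (hL : ¬ ∀ a b : L, a * b = b * a) (h : HasSoc A L) (h' : HasSoc A L') :
    Nonempty (L ≃* L') := by
  obtain ⟨N, h1, h2, h3, ⟨e⟩⟩ := h
  obtain ⟨N', h1', h2', h3', ⟨e'⟩⟩ := h'
  have hN : IsSimpleGroup N := by
    haveI := hs
    exact e.isSimpleGroup
  have hN' : IsSimpleGroup N' := by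
    haveI := hs'
    exact e'.isSimpleGroup
  have hn : ((N' ⊓ N).subgroupOf N).Normal := ⟨by
    rintro ⟨n, hn'⟩ hn ⟨a, ha⟩
    exact ⟨h2' a (h1 ha) n hn.1, N.mul_mem (N.mul_mem ha hn') (N.inv_mem ha)⟩⟩
  have hnn : ((N' ⊓ N).subgroupOf N').Normal := ⟨by
    rintro ⟨n, hn'⟩ hn ⟨a, ha⟩
    exact ⟨N'.mul_mem (N'.mul_mem ha hn') (N'.inv_mem ha), h2 a (h1' ha) n hn.2⟩⟩
  have hne : N' ⊓ N ≠ ⊥ := by
    intro hbot
    -- `N` and `N'` commute
    have hcomm : ∀ n ∈ N, ∀ n' ∈ N', n' * n = n * n' := by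
      intro n hn n' hn'
      have h5 : n' * n * n'⁻¹ * n⁻¹ ∈ N' ⊓ N := by
        refine ⟨?_, ?_⟩
        · have : n' * n * n'⁻¹ * n⁻¹ = n' * (n * n'⁻¹ * n⁻¹) := by group
          rw [this]
          exact N'.mul_mem hn' (h2' n (h1 hn) _ (N'.inv_mem hn'))
        · exact N.mul_mem (h2 n' (h1' hn') _ hn) (N.inv_mem hn)
      rw [hbot, Subgroup.mem_bot] at h5
      rw [mul_inv_eq_one, mul_inv_eq_iff_eq_mul] at h5
      exact h5
    have hbotN : ∀ n ∈ N, n = 1 := fun n hn => h3' n (h1 hn) fun n' hn' => (hcomm n hn n' hn').symm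
    apply hL
    intro a b
    have h6 : ∀ a : L, a = 1 := by
      intro a
      apply e.symm.injective
      rw [map_one]
      exact Subtype.ext (hbotN _ (e.symm a).2)
    rw [h6 a, h6 b]
  have hle : N ≤ N' := by
    rcases hn.eq_bot_or_eq_top with h4 | h4
    · exfalso
      apply hne
      rw [Subgroup.subgroupOf_eq_bot] at h4
      rw [Subgroup.eq_bot_iff_forall]
      intro x hx
      exact Subgroup.mem_bot.1 (h4.le_bot ⟨hx, hx.2⟩)
    · rw [Subgroup.subgroupOf_eq_top] at h4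
      exact fun x hx => (h4 hx).1
  have hle' : N' ≤ N := by
    rcases hnn.eq_bot_or_eq_top with h4 | h4
    · exfalso
      apply hne
      rw [Subgroup.subgroupOf_eq_bot] at h4
      rw [Subgroup.eq_bot_iff_forall]
      intro x hx
      exact Subgroup.mem_bot.1 (h4.le_bot ⟨hx, hx.1⟩)
    · rw [Subgroup.subgroupOf_eq_top] at h4
      exact fun x hx => (h4 hx).2
  have heq : N = N' := le_antisymm hle hle'
  subst heq
  exact ⟨e.symm.trans e'⟩

theorem char_two {F : Type*} [Field F] [Fintype F] (hF : Fintype.card F = 2) : CharP F 2 := by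
  have h2 : ((2 : ℕ) : F) = 0 := by
    have h1 := Nat.cast_card_eq_zero F
    rwa [hF] at h1
  obtain ⟨p, hp⟩ := CharP.exists F
  have h3 := (CharP.cast_eq_zero_iff F p 2).1 h2
  rcases (Nat.dvd_prime Nat.prime_two).1 h3 with rfl | rfl
  · exact absurd rfl (CharP.char_ne_one F 1)
  · exact hp

section

variable {Q : Type} [Group Q] [Finite Q] {A : Subgroup Q} {Γ : Subgroup (MulAut Q)}
variable {F : Type} [Field F] [Fintype F] {ι : Type} [Fintype ι] [DecidableEq ι] {Qf : (ι → F) → F}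

/-- **alternating socles over the field of two elements, dimension at most 12** -/
theorem nat_core (hs : IsSimpleGroup Q) (h : EPT A Γ) (m : Model Q (omegaGL Qf))
    (hQ : IsNondegenerateQuadraticForm Qf) {P : Subgroup (GL ι F)} (hP : IsResidualCore (m.hat A) P)
    (hF : Fintype.card F = 2) (hn : Fintype.card ι ≤ 12) {c : ℕ} (hc : 11 ≤ c) (e : Soc P ≃* alternatingGroup (Fin c)) :
    False := by
  haveI := char_two hF
  haveI : Fact (Nat.Prime 2) := ⟨Nat.prime_two⟩
  rcases Cfsg.Agent.H614.AMod.Main.alt_cases (core_of_residual hP) 2 e (by omega) hn (by omega) with h1 | h1 | h1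
  · obtain ⟨φ, -, w, hw⟩ := h1.nat
    exact Cfsg.Agent.H951.Nt.nat2 hs h m hQ hP (by rw [Nat.card_eq_fintype_card, hF]) (by omega) (by omega) φ hw
  · have := h1.m9
    omega
  · exact absurd rfl h1.2.2.1

/-- the same, with the natural module of `A_9` -/
theorem nat_core_nine (hs : IsSimpleGroup Q) (h : EPT A Γ) (m : Model Q (omegaGL Qf))
    (hQ : IsNondegenerateQuadraticForm Qf) {P : Subgroup (GL ι F)} (hP : IsResidualCore (m.hat A) P)
    (hF : Fintype.card F = 2) (hn : Fintype.card ι ≤ 12) (e : Soc P ≃* alternatingGroup (Fin 9)) :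
    Cfsg.Agent.H614.AMod.Main.Nine P 9 e := by
  haveI := char_two hF
  haveI : Fact (Nat.Prime 2) := ⟨Nat.prime_two⟩
  rcases Cfsg.Agent.H614.AMod.Main.alt_cases (core_of_residual hP) 2 e (by omega) hn (by omega) with h1 | h1 | h1
  · exfalso
    obtain ⟨φ, -, w, hw⟩ := h1.nat
    exact Cfsg.Agent.H951.Nt.nat2 hs h m hQ hP (by rw [Nat.card_eq_fintype_card, hF]) (by omega) (by omega) φ hw
  · exact h1
  · exact absurd rfl h1.2.2.1

theorem alt_simple {n : ℕ} (hn : 5 ≤ n) : IsSimpleGroup (alternatingGroup (Fin n)) := by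
  have : Fact (5 ≤ Nat.card (Fin n)) := ⟨by rwa [Nat.card_eq_fintype_card, Fintype.card_fin]⟩
  exact alternatingGroup.isSimpleGroup (by rwa [Nat.card_eq_fintype_card, Fintype.card_fin])

/-- **with the abstract socle** -/
theorem nat_hasSoc (hs : IsSimpleGroup Q) (h : EPT A Γ) (m : Model Q (omegaGL Qf))
    (hQ : IsNondegenerateQuadraticForm Qf) (hres : InOrthogonalResidualClass (m.hat A))
    (hF : Fintype.card F = 2) (hn : Fintype.card ι ≤ 12) {c : ℕ} (hc : 11 ≤ c)
    (hsoc : HasSoc A (alternatingGroup (Fin c))) : False := by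
  obtain ⟨P, hP, -⟩ := hres
  have h1 := hasSoc_of_core m hP
  obtain ⟨e⟩ := soc_unique hP.simple (alt_simple (by omega)) (fun hab => hP.nonabelian ⟨⟨hab⟩⟩) h1 hsoc
  exact nat_core hs h m hQ hP hF hn hc e

end

end Cfsg.Agent.H575.NA
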