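import Cfsg.Agent.H575.NA.Act
import Cfsg.Agent.H964.AltMod.Mat
import Cfsg.Agent.StandardComponent.AltAut
import Cfsg.Agent.H419.EP.Iface

/-!
# S3499, natural alternating modules over the field of two elements: the family (helper575)

`exists_fam` : `P ≤ Â` normal, `φ : P ≃* Alt (Fin c)` with the natural module `NatM (rep φ) w`, `|F| = 2`: there is
`s : Q → Perm (Fin c)` such that all elements of `Â` act by `w i j ↦ w (s i) (s j)`.
-/

set_option autoImplicit false
set_option linter.unusedSectionVars false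

namespace Cfsg.Agent.H575.NA

open Equiv Equiv.Perm Cfsg Cfsg.Geo Matrix Cfsg.Agent.H284 Cfsg.Agent.H419.EP Cfsg.Agent.H614.AMod Cfsg.Agent.H964.AltMod
open scoped MatrixGroups

universe u

variable {ι : Type} [Fintype ι] [DecidableEq ι] {F : Type u} [Field F]

/-- the interface of the kill step -/
structure Fam {Q : Type*} [Group Q] (A : Subgroup Q) {S : Subgroup (GL ι F)} (m : Model Q S) {k : ℕ}
    (s : Q → Perm (Fin k)) (f : Fin k → Fin k → ι → F) : Prop where
  alt : ∀ σ ∈ alternatingGroup (Fin k), ∃ a ∈ A, s a = σ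
  self : ∀ i, f i i = 0
  tri : ∀ i j l, f i j + f j l = f i l
  ne : ∀ i j, i ≠ j → f i j ≠ 0
  span : Submodule.span F (Set.range fun p : Fin k × Fin k => f p.1 p.2) = ⊤
  act : ∀ g : S, m.π g ∈ A → ∀ i j, ((g : GL ι F) : Matrix ι ι F).mulVec (f i j) = f (s (m.π g) i) (s (m.π g) j)

/-- an element normalising `P` induces a permutation -/
theorem exists_perm {P : Subgroup (GL ι F)} {c : ℕ} (hc : 8 ≤ c) (φ : P ≃* alternatingGroup (Fin c)) {g : GL ι F}
    (hg : ∀ x ∈ P, g * x * g⁻¹ ∈ P) (hg' : ∀ x ∈ P, g⁻¹ * x * g ∈ P) :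
    ∃ σ : Perm (Fin c), ∀ x y : P, (y : GL ι F) = g * x * g⁻¹ →
      ((φ y : alternatingGroup (Fin c)) : Perm (Fin c)) = σ * (φ x : alternatingGroup (Fin c)) * σ⁻¹ := by
  obtain ⟨ψ, hψ⟩ := Cfsg.Agent.StandardComponent.AltAut.exists_autHom c (by omega)
  let cg : P ≃* P :=
    { toFun := fun x => ⟨g * x * g⁻¹, hg x x.2⟩
      invFun := fun x => ⟨g⁻¹ * x * g, hg' x x.2⟩
      left_inv := fun x => Subtype.ext (by
        show g⁻¹ * (g * (x : GL ι F) * g⁻¹) * g = x
        group)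
      right_inv := fun x => Subtype.ext (by
        show g * (g⁻¹ * (x : GL ι F) * g) * g⁻¹ = x
        group)
      map_mul' := fun x y => Subtype.ext (by
        show g * ((x : GL ι F) * y) * g⁻¹ = g * x * g⁻¹ * (g * y * g⁻¹)
        group) }
  refine ⟨ψ (φ.symm.trans (cg.trans φ)), ?_⟩
  intro x y hy
  rw [← hψ]
  have h1 : y = cg x := Subtype.ext hy
  rw [h1]
  show ((φ (cg x) : alternatingGroup (Fin c)) : Perm (Fin c)) = (φ (cg (φ.symm (φ x))) : alternatingGroup (Fin c))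
  rw [φ.symm_apply_apply]

theorem scalars_two (hF : ∀ a : F, a = 0 ∨ a = 1) {g : GL ι F} (hg : g ∈ scalars ι F) : g = 1 := by
  obtain ⟨c, hc⟩ := (mem_scalars_iff g).1 hg
  rcases hF (c : F) with h | h
  · exact absurd h c.ne_zero
  · apply Units.ext
    rw [hc, h, one_smul]
    rfl

/-- **the family with the action of `Â`** -/
theorem exists_fam {Q : Type*} [Group Q] {A : Subgroup Q} {S : Subgroup (GL ι F)} (m : Model Q S)
    (hF : ∀ a : F, a = 0 ∨ a = 1) {P : Subgroup (GL ι F)} (hPA : P ≤ m.hat A)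
    (hn : ∀ g ∈ m.hat A, ∀ x ∈ P, g * x * g⁻¹ ∈ P) {c : ℕ} (hc : 8 ≤ c) (φ : P ≃* alternatingGroup (Fin c))
    {w : Fin c → Fin c → (ι → F)} (hw : NatM (rep φ) w) : ∃ s : Q → Perm (Fin c), Fam A m s w := by
  have hc8 : 8 ≤ Fintype.card (Fin c) := by rwa [Fintype.card_fin]
  have hinj : ∀ g g' : S, m.π g = m.π g' → g = g' := by
    intro g g' h
    obtain ⟨z, hz, h1⟩ := (m.π_eq_iff g g').1 h
    rw [scalars_two hF hz, mul_one] at h1
    exact Subtype.ext h1
  have hex : ∀ q : Q, ∃ σ : Perm (Fin c), q ∈ A → ∀ g : S, m.π g = q → ∀ x y : P, (y : GL ι F) = g * x * (g : GL ι F)⁻¹ →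
      ((φ y : alternatingGroup (Fin c)) : Perm (Fin c)) = σ * (φ x : alternatingGroup (Fin c)) * σ⁻¹ := by
    intro q
    by_cases hq : q ∈ A
    · obtain ⟨g0, rfl⟩ := m.surj q
      have hg0 : (g0 : GL ι F) ∈ m.hat A := (m.mem_hat_iff g0).2 hq
      obtain ⟨σ, hσ⟩ := exists_perm hc φ (hn _ hg0) (fun x hx => by
        have := hn _ ((m.hat A).inv_mem hg0) x hx
        rwa [inv_inv] at this)
      refine ⟨σ, fun _ g hg => ?_⟩
      rw [hinj g g0 hg]
      exact hσ
    · exact ⟨1, fun h => absurd h hq⟩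
  choose s hs using hex
  refine ⟨s, ?_, hw.self, hw.tri, fun i j hij => hw.ne_zero hc8 hij, hw.span, ?_⟩
  · intro σ hσ
    set p : P := φ.symm ⟨σ, hσ⟩ with hp
    have hpA : (p : GL ι F) ∈ m.hat A := hPA p.2
    obtain ⟨hpS, hpA'⟩ := m.mem_hat.1 hpA
    refine ⟨_, hpA', ?_⟩
    obtain ⟨c', rfl⟩ : ∃ c', c = c' + 2 := ⟨c - 2, by omega⟩
    apply Cfsg.Agent.StandardComponent.AltAut.conj_unique (m := c') (by omega)
    intro x
    have h1 := hs _ hpA' ⟨(p : GL ι F), hpS⟩ rfl (φ.symm x) (p * φ.symm x * p⁻¹) rfl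
    have hpφ : φ p = ⟨σ, hσ⟩ := by rw [hp, φ.apply_symm_apply]
    rw [map_mul, map_mul, map_inv, hpφ, φ.apply_symm_apply] at h1
    exact h1.symm
  · intro g hg i j
    have hgT := twist_two hw hc8 hF (Matrix.toLin' ((g : GL ι F) : Matrix ι ι F)) ?_ (s (m.π g)) ?_ i j
    · rw [Matrix.toLin'_apply] at hgT
      exact hgT
    · intro u v huv
      rw [Matrix.toLin'_apply, Matrix.toLin'_apply] at huv
      have h1 := congrArg (fun t => (((g : GL ι F)⁻¹ : GL ι F) : Matrix ι ι F) *ᵥ t) huv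
      simp only [Matrix.mulVec_mulVec] at h1
      rwa [← Units.val_mul, inv_mul_cancel, Units.val_one, Matrix.one_mulVec, Matrix.one_mulVec] at h1
    · intro x x' hx' v
      have hgP : (g : GL ι F) * (φ.symm x : P) * (g : GL ι F)⁻¹ ∈ P :=
        hn _ ((m.mem_hat_iff g).2 hg) _ (φ.symm x).2
      have h1 := hs _ hg g rfl (φ.symm x) ⟨_, hgP⟩ rfl
      rw [φ.apply_symm_apply, ← hx'] at h1
      have h2 : φ.symm x' = ⟨_, hgP⟩ := by
        rw [MulEquiv.symm_apply_eq]
        exact (Subtype.ext h1).symm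
      rw [Matrix.toLin'_apply, Matrix.toLin'_apply, rep_apply, rep_apply, h2, Matrix.mulVec_mulVec, Matrix.mulVec_mulVec]
      congr 1
      show _ = (((g : GL ι F) * (φ.symm x : P) * (g : GL ι F)⁻¹ : GL ι F) : Matrix ι ι F) * ((g : GL ι F) : Matrix ι ι F)
      rw [← Units.val_mul, ← Units.val_mul, inv_mul_cancel_right]

end Cfsg.Agent.H575.NA
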